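import Mathlib

/-!
# S4068 (non-solvable groups with four automorphism orbits): shared definitions

`PrimeOrders G`: every non-identity element of `G` has prime order.
`AutTrans G`: `Aut(G)` is transitive on the elements of each order.
-/

set_option autoImplicit false

namespace Cfsg.Agent.Lib.Helper19.AutOrb

/-- Every non-identity element has prime order. -/
def PrimeOrders (G : Type*) [Group G] : Prop := ∀ g : G, g ≠ 1 → (orderOf g).Prime

/-- `Aut(G)` is transitive on the elements of each order. -/
def AutTrans (G : Type*) [Group G] : Prop :=
  ∀ x y : G, orderOf x = orderOf y → ∃ φ : MulAut G, φ x = y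

theorem PrimeOrders.of_mulEquiv {G H : Type*} [Group G] [Group H] (e : G ≃* H)
    (h : PrimeOrders G) : PrimeOrders H := by
  intro g hg
  have h1 : e.symm g ≠ 1 := by
    intro h0
    apply hg
    have := congrArg e h0
    simpa using this
  have := h (e.symm g) h1
  rwa [MulEquiv.orderOf_eq] at this

end Cfsg.Agent.Lib.Helper19.AutOrb
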