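import Cfsg.Agent.Lib.Helper19.AutOrb.Defs

/-!
# S4068 farm, piece [B1]: centralizers of involutions are abelian when all orders are prime
-/

set_option autoImplicit false

namespace Cfsg.Agent.Lib.Helper19.AutOrb

namespace Aux

/-- an element commuting with an involution has square one, when all orders are prime. -/
theorem sq_eq_one_of_commute {G : Type*} [Group G] (hpo : PrimeOrders G)
    (t : G) (ht : orderOf t = 2) (y : G) (hty : Commute t y) : y * y = 1 := by
  by_cases hy : y = 1
  · rw [hy, mul_one]
  have hs := hpo y hy
  by_cases h2 : orderOf y = 2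
  · rw [← pow_two, ← h2, pow_orderOf_eq_one]
  exfalso
  have hcop : Nat.Coprime (orderOf t) (orderOf y) := by
    rw [ht]
    exact (Nat.coprime_primes Nat.prime_two hs).2 (Ne.symm h2)
  have hord := hty.orderOf_mul_eq_mul_orderOf_of_coprime hcop
  rw [ht] at hord
  have hne : t * y ≠ 1 := by
    intro h1
    rw [h1, orderOf_one] at hord
    have := hs.pos
    omega
  have hp := hpo (t * y) hne
  rw [hord] at hp
  exact Nat.not_prime_mul (by norm_num) hs.one_lt.ne' hp

end Aux

/-- [B1] centralizers of involutions have exponent 2, hence are abelian. -/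
theorem centralizer_involution_comm {G : Type*} [Group G] [Finite G] (hpo : PrimeOrders G)
    (t : G) (ht : orderOf t = 2) : IsMulCommutative ↥(Subgroup.centralizer ({t} : Set G)) := by
  have hsq : ∀ y : ↥(Subgroup.centralizer ({t} : Set G)), y * y = 1 := by
    intro y
    have hy : Commute t (y : G) := by
      have := y.2
      rw [Subgroup.mem_centralizer_iff] at this
      exact this t (Set.mem_singleton t)
    apply Subtype.ext
    have := Aux.sq_eq_one_of_commute hpo t ht (y : G) hy
    simpa using this
  refine ⟨⟨fun a b => ?_⟩⟩
  have h1 := hsq (a * b)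
  have ha := hsq a
  have hb := hsq b
  calc a * b = a * (a * b * (a * b)) * b := by rw [h1, mul_one]
    _ = (a * a) * (b * a) * (b * b) := by group
    _ = b * a := by rw [ha, hb, one_mul, mul_one]

end Cfsg.Agent.Lib.Helper19.AutOrb
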