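import Cfsg.Agent.Lib.Helper19.AutOrb.Defs
import Cfsg.Agent.Lib.Helper14.SL2

/-!
# S4068 farm, pieces [B4f] and [B4]: the `SL₂(F) × A` case, from the sub-pieces taken as hypotheses
-/

set_option autoImplicit false

namespace Cfsg.Agent.Lib.Helper19.AutOrb

open Matrix

namespace Aux

/-- [B4f] with the sub-pieces as hypotheses. -/
theorem card_field_eq_four_of {F : Type*} [Field F] [Fintype F] [CharP F 2]
    (htorus : ∃ g : SpecialLinearGroup (Fin 2) F, orderOf g = Fintype.card F - 1)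
    (hcases : ∀ n : ℕ, 2 ≤ n → (2 ^ n - 1).Prime →
      (2 ^ n * ((2 ^ n) ^ 2 - 1)).primeFactors.card = 3 → n = 2 ∨ n = 3)
    (hnine : Fintype.card F = 8 → ∃ g : SpecialLinearGroup (Fin 2) F, orderOf g = 9)
    (hpo : PrimeOrders (SpecialLinearGroup (Fin 2) F))
    (h3 : (Nat.card (SpecialLinearGroup (Fin 2) F)).primeFactors.card = 3) :
    Fintype.card F = 4 := by
  obtain ⟨n, -, hn⟩ := FiniteField.card F 2
  rw [Cfsg.Agent.Lib.Helper14.card_SL2, hn] at h3
  have hn1 : 1 ≤ (n : ℕ) := n.pos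
  by_cases hn2 : (n : ℕ) = 1
  · exfalso
    rw [hn2] at h3
    have h6 : (2 ^ 1 * ((2 ^ 1) ^ 2 - 1) : ℕ) = 6 := by norm_num
    rw [h6] at h3
    have h6' : Nat.primeFactors 6 = {2, 3} := by
      have : (6 : ℕ) = 2 * 3 := by norm_num
      rw [this, Nat.primeFactors_mul (by norm_num) (by norm_num), Nat.Prime.primeFactors Nat.prime_two,
        Nat.Prime.primeFactors Nat.prime_three]
      rfl
    rw [h6'] at h3
    simp at h3
  have hn2' : 2 ≤ (n : ℕ) := by omega
  obtain ⟨g, hg⟩ := htorus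
  rw [hn] at hg
  have hge : 4 ≤ 2 ^ (n : ℕ) := by
    calc 4 = 2 ^ 2 := by norm_num
      _ ≤ 2 ^ (n : ℕ) := Nat.pow_le_pow_right (by norm_num) hn2'
  have hg1 : g ≠ 1 := by
    intro h
    rw [h, orderOf_one] at hg
    omega
  have hprime : (2 ^ (n : ℕ) - 1).Prime := by
    rw [← hg]
    exact hpo g hg1
  rcases hcases n hn2' hprime h3 with h | h
  · rw [hn, h]
    norm_num
  · exfalso
    have h8 : Fintype.card F = 8 := by
      rw [hn, h]
      norm_num
    obtain ⟨k, hk⟩ := hnine h8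
    have hk1 : k ≠ 1 := by
      intro h
      rw [h, orderOf_one] at hk
      omega
    have := hpo k hk1
    rw [hk] at this
    exact absurd this (by norm_num)

/-- [B4] with the sub-pieces as hypotheses. -/
theorem sl2_case_of {F : Type*} [Field F] [Fintype F] [CharP F 2] {A : Type*} [CommGroup A]
    [Finite A] (hA1 : Nat.card A = 1)
    (hF4 : PrimeOrders (SpecialLinearGroup (Fin 2) F) →
      (Nat.card (SpecialLinearGroup (Fin 2) F)).primeFactors.card = 3 → Fintype.card F = 4)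
    (hiso : Fintype.card F = 4 →
      Nonempty (SpecialLinearGroup (Fin 2) F ≃* alternatingGroup (Fin 5)))
    (hpo : PrimeOrders (SpecialLinearGroup (Fin 2) F × A))
    (h3 : (Nat.card (SpecialLinearGroup (Fin 2) F × A)).primeFactors.card = 3) :
    Nonempty (SpecialLinearGroup (Fin 2) F × A ≃* alternatingGroup (Fin 5)) := by
  obtain ⟨hsub, hne⟩ := Nat.card_eq_one_iff_unique.mp hA1
  have hU : Unique A := ⟨⟨hne.some⟩, fun a => Subsingleton.elim _ _⟩
  let e : SpecialLinearGroup (Fin 2) F × A ≃* SpecialLinearGroup (Fin 2) F := MulEquiv.prodUnique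
  have hpo' : PrimeOrders (SpecialLinearGroup (Fin 2) F) := hpo.of_mulEquiv e
  have h3' : (Nat.card (SpecialLinearGroup (Fin 2) F)).primeFactors.card = 3 := by
    rw [← Nat.card_congr e.toEquiv]
    exact h3
  obtain ⟨e'⟩ := hiso (hF4 hpo' h3')
  exact ⟨e.trans e'⟩

end Aux

end Cfsg.Agent.Lib.Helper19.AutOrb
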