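import Mathlib

/-!
# S4068 farm, piece [B4c]: `2 ^ n - 1` prime and three prime divisors of `|SL₂(2ⁿ)|` force `n ≤ 3`
-/

set_option autoImplicit false

namespace Cfsg.Agent.Lib.Helper19.AutOrb

namespace Aux

/-- `2 ^ n + 1 = 3 ^ k` with `n ≥ 2` forces `n = 3`. -/
theorem two_pow_add_one_eq_three_pow {n k : ℕ} (hn : 2 ≤ n) (h : 2 ^ n + 1 = 3 ^ k) : n = 3 := by
  -- `k` is even, by reduction mod 4
  have h4 : (2 : ℕ) ^ n % 4 = 0 := by
    obtain ⟨m, rfl⟩ := Nat.exists_eq_add_of_le hn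
    rw [pow_add]
    norm_num
  have hk : Even k := by
    by_contra hk
    have hk' : Odd k := Nat.not_even_iff_odd.mp hk
    obtain ⟨j, hj⟩ := hk'
    have hj' : k = 2 * j + 1 := hj
    subst hj'
    have : (3 : ℕ) ^ (2 * j + 1) % 4 = 3 := by
      rw [pow_succ, pow_mul]
      have : (3 ^ 2 : ℕ) ^ j % 4 = 1 := by
        rw [Nat.pow_mod]
        norm_num
      omega
    omega
  obtain ⟨j, hj⟩ := hk
  have hj' : k = j + j := hj
  subst hj'
  -- `(3 ^ j - 1) * (3 ^ j + 1) = 2 ^ n`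
  have h1 : 1 ≤ 3 ^ j := Nat.one_le_pow _ _ (by norm_num)
  have hprod : (3 ^ j - 1) * (3 ^ j + 1) = 2 ^ n := by
    have : (3 : ℕ) ^ (j + j) = 3 ^ j * 3 ^ j := pow_add _ _ _
    zify [h1] at *
    linear_combination this - h
  have hd1 : 3 ^ j - 1 ∣ 2 ^ n := Dvd.intro _ hprod
  have hd2 : 3 ^ j + 1 ∣ 2 ^ n := Dvd.intro_left _ hprod
  obtain ⟨a, -, ha⟩ := (Nat.dvd_prime_pow Nat.prime_two).mp hd1
  obtain ⟨b, -, hb⟩ := (Nat.dvd_prime_pow Nat.prime_two).mp hd2
  -- `2 ^ b = 2 ^ a + 2`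
  have hab : 2 ^ b = 2 ^ a + 2 := by omega
  have ha1 : a = 1 := by
    rcases Nat.lt_or_ge a 2 with ha2 | ha2
    · interval_cases a
      · -- `2 ^ b = 3`
        exfalso
        have : 2 ^ b = 3 := by simpa using hab
        rcases Nat.lt_or_ge b 2 with hb2 | hb2
        · interval_cases b <;> omega
        · obtain ⟨m, rfl⟩ := Nat.exists_eq_add_of_le hb2
          rw [pow_add] at this
          omega
      · rfl
    · exfalso
      obtain ⟨m, rfl⟩ := Nat.exists_eq_add_of_le ha2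
      have hb2 : 2 ≤ b := by
        by_contra hb2
        have : b < 2 := by omega
        have h2 : (2 : ℕ) ^ (2 + m) = 4 * 2 ^ m := by rw [pow_add]; norm_num
        have h3 : 1 ≤ 2 ^ m := Nat.one_le_two_pow
        interval_cases b <;> omega
      obtain ⟨m', rfl⟩ := Nat.exists_eq_add_of_le hb2
      rw [pow_add, pow_add] at hab
      omega
  subst ha1
  have h3j : 3 ^ j = 3 := by omega
  rw [h3j] at hprod
  have : (2 : ℕ) ^ n = 2 ^ 3 := by rw [← hprod]; norm_num
  exact Nat.pow_right_injective (le_refl 2) this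

end Aux

/-- [B4c] number theory. -/
theorem two_pow_cases (n : ℕ) (hn : 2 ≤ n) (hM : (2 ^ n - 1).Prime)
    (h3 : (2 ^ n * ((2 ^ n) ^ 2 - 1)).primeFactors.card = 3) : n = 2 ∨ n = 3 := by
  have hnp : n.Prime := (Nat.prime_of_pow_sub_one_prime (by omega) hM).2
  rcases hnp.eq_two_or_odd' with h2 | hodd
  · exact Or.inl h2
  right
  have hn3 : 3 ≤ n := by
    rcases hodd with ⟨m, rfl⟩
    omega
  set q : ℕ := 2 ^ n with hq
  have hq8 : 8 ≤ q := by
    calc 8 = 2 ^ 3 := by norm_num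
      _ ≤ 2 ^ n := Nat.pow_le_pow_right (by norm_num) hn3
  -- `3 ∣ q + 1`
  have h3dvd : 3 ∣ q + 1 := by
    have := Odd.nat_add_dvd_pow_add_pow 2 1 hodd
    simpa using this
  -- factorisation
  have hfac : q ^ 2 - 1 = (q - 1) * (q + 1) := by
    have h1 : 1 ≤ q := by omega
    have h2 : 1 ≤ q ^ 2 := Nat.one_le_pow _ _ (by omega)
    zify [h1, h2]
    ring
  have hqodd : ¬ 2 ∣ q + 1 := by
    have : 2 ∣ q := dvd_pow_self 2 (by omega)
    omega
  -- the three primes `2, 3, q - 1` all divide `q * (q ^ 2 - 1)`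
  have hne : q * (q ^ 2 - 1) ≠ 0 := by
    rw [hfac]
    have : 0 < q - 1 := by omega
    positivity
  have hsub : ({2, 3, q - 1} : Finset ℕ) ⊆ (q * (q ^ 2 - 1)).primeFactors := by
    intro p hp
    simp only [Finset.mem_insert, Finset.mem_singleton] at hp
    rw [Nat.mem_primeFactors]
    rcases hp with rfl | rfl | rfl
    · exact ⟨Nat.prime_two, Dvd.dvd.mul_right (dvd_pow_self 2 (by omega)) _, hne⟩
    · refine ⟨Nat.prime_three, ?_, hne⟩
      rw [hfac]
      exact Dvd.dvd.mul_left (Dvd.dvd.mul_left h3dvd _) _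
    · refine ⟨hM, ?_, hne⟩
      rw [hfac]
      exact Dvd.dvd.mul_left (Dvd.intro _ rfl) _
  have hcard : ({2, 3, q - 1} : Finset ℕ).card = 3 := by
    rw [Finset.card_insert_of_notMem, Finset.card_insert_of_notMem, Finset.card_singleton]
    · simp only [Finset.mem_singleton]; omega
    · simp only [Finset.mem_insert, Finset.mem_singleton]; omega
  have heq : ({2, 3, q - 1} : Finset ℕ) = (q * (q ^ 2 - 1)).primeFactors :=
    Finset.eq_of_subset_of_card_le hsub (by rw [hcard, h3])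
  -- every prime divisor of `q + 1` is `3`
  have hall : ∀ {d : ℕ}, d.Prime → d ∣ q + 1 → d = 3 := by
    intro d hd hdq
    have hmem : d ∈ (q * (q ^ 2 - 1)).primeFactors := by
      rw [Nat.mem_primeFactors]
      refine ⟨hd, ?_, hne⟩
      rw [hfac]
      exact Dvd.dvd.mul_left (Dvd.dvd.mul_left hdq _) _
    rw [← heq] at hmem
    simp only [Finset.mem_insert, Finset.mem_singleton] at hmem
    rcases hmem with rfl | rfl | rfl
    · exact absurd hdq hqodd
    · rfl
    · exfalso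
      -- `q - 1 ∣ q + 1` gives `q - 1 ∣ 2`
      have : q - 1 ∣ 2 := by
        have h := (Nat.dvd_sub hdq (dvd_refl (q - 1)))
        have : q + 1 - (q - 1) = 2 := by omega
        rwa [this] at h
      have := Nat.le_of_dvd (by norm_num) this
      omega
  have hpow := Nat.eq_prime_pow_of_unique_prime_dvd (n := q + 1) (p := 3) (by omega) hall
  exact Aux.two_pow_add_one_eq_three_pow hn hpow

end Cfsg.Agent.Lib.Helper19.AutOrb
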