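import Cfsg.Agent.Lib.Helper19.AutOrb.Defs

/-!
# S4068 farm, piece [C4]: counting the elements by their (prime) orders
-/

set_option autoImplicit false

namespace Cfsg.Agent.Lib.Helper19.AutOrb

/-- [C4] class equation by orders. -/
theorem card_eq_sum_orderOf {G : Type*} [Group G] [Finite G] (hpo : PrimeOrders G) :
    Nat.card G = 1 + ∑ s ∈ (Nat.card G).primeFactors, Nat.card {x : G // orderOf x = s} := by
  classical
  have : Fintype G := Fintype.ofFinite G
  have hcard : ∀ s : ℕ, Nat.card {x : G // orderOf x = s} =
      (Finset.univ.filter (fun x : G => orderOf x = s)).card := by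
    intro s
    rw [Nat.card_eq_fintype_card, Fintype.card_subtype]
  have hmem : ∀ x ∈ (Finset.univ : Finset G),
      orderOf x ∈ insert 1 (Nat.card G).primeFactors := by
    intro x _
    by_cases hx : x = 1
    · rw [hx, orderOf_one]
      exact Finset.mem_insert_self _ _
    · apply Finset.mem_insert_of_mem
      rw [Nat.mem_primeFactors]
      exact ⟨hpo x hx, orderOf_dvd_natCard x, Nat.card_pos.ne'⟩
  have h1 := Finset.card_eq_sum_card_fiberwise hmem
  have hnot : (1 : ℕ) ∉ (Nat.card G).primeFactors := by
    intro h
    exact Nat.not_prime_one (Nat.prime_of_mem_primeFactors h)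
  rw [Finset.sum_insert hnot] at h1
  have hone : (Finset.univ.filter (fun x : G => orderOf x = 1)).card = 1 := by
    rw [Finset.card_eq_one]
    refine ⟨1, ?_⟩
    ext x
    simp [orderOf_eq_one_iff]
  rw [hone, Finset.card_univ, ← Nat.card_eq_fintype_card] at h1
  refine h1.trans ?_
  congr 1
  apply Finset.sum_congr rfl
  intro s _
  rw [hcard s]

end Cfsg.Agent.Lib.Helper19.AutOrb
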