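import Mathlib

/-!
# S4068 farm, piece [C5]: the arithmetic contradiction in the odd order case
-/

set_option autoImplicit false

namespace Cfsg.Agent.Lib.Helper19.AutOrb

/-- [C5] arithmetic: three odd primes, each term `< N/3`, the terms with `s = 3 ∨ 3 ∤ N`
`< N/5`: impossible. -/
theorem odd_arith (N : ℕ) (hodd : Odd N) (h3 : N.primeFactors.card = 3) (f : ℕ → ℕ)
    (hN : N = 1 + ∑ s ∈ N.primeFactors, f s)
    (h1 : ∀ s ∈ N.primeFactors, 3 * f s < N)
    (h2 : ∀ s ∈ N.primeFactors, (s = 3 ∨ ¬ 3 ∣ N) → 5 * f s < N) : False := by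
  have _hodd := hodd
  have hN0 : N ≠ 0 := by
    rintro rfl
    simp at h3
  -- a prime with the strong bound
  have hex : ∃ s0 ∈ N.primeFactors, 5 * f s0 < N := by
    by_cases h : 3 ∣ N
    · have h3mem : 3 ∈ N.primeFactors := Nat.mem_primeFactors.mpr ⟨Nat.prime_three, h, hN0⟩
      exact ⟨3, h3mem, h2 3 h3mem (Or.inl rfl)⟩
    · obtain ⟨s, hs⟩ := Finset.card_pos.mp (by omega : 0 < N.primeFactors.card)
      exact ⟨s, hs, h2 s hs (Or.inr h)⟩
  obtain ⟨s0, hs0, h5⟩ := hex
  have h2N : 2 ≤ N := le_trans (Nat.prime_of_mem_primeFactors hs0).two_le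
    (Nat.le_of_dvd (Nat.pos_of_ne_zero hN0) (Nat.dvd_of_mem_primeFactors hs0))
  have hsum : ∑ s ∈ N.primeFactors, f s = f s0 + ∑ s ∈ N.primeFactors.erase s0, f s :=
    (Finset.add_sum_erase _ _ hs0).symm
  have hcard : (N.primeFactors.erase s0).card = 2 := by
    rw [Finset.card_erase_of_mem hs0, h3]
  have hrest : 3 * ∑ s ∈ N.primeFactors.erase s0, f s ≤ 2 * (N - 1) := by
    rw [Finset.mul_sum]
    calc ∑ s ∈ N.primeFactors.erase s0, 3 * f s
        ≤ ∑ _s ∈ N.primeFactors.erase s0, (N - 1) :=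
          Finset.sum_le_sum (fun s hs => by
            have := h1 s (Finset.mem_of_mem_erase hs)
            omega)
      _ = 2 * (N - 1) := by rw [Finset.sum_const, hcard, smul_eq_mul]
  omega

end Cfsg.Agent.Lib.Helper19.AutOrb
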