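import Cfsg.Agent.Lib.Helper19.AutOrb.Defs
import Cfsg.Agent.Lib.Helper19.AutOrb.W
import Cfsg.Agent.Lib.Helper19.AutOrb.B1
import Cfsg.Agent.Lib.Helper19.AutOrb.C4
import Cfsg.Agent.Lib.Helper19.AutOrb.C5
import Cfsg.Agent.Lib.Helper19.AutOrb.B4c
import Cfsg.Agent.Lib.Helper19.AutOrb.B4
import Cfsg.Agent.Lib.Helper13.AutOrbT
import Cfsg.Agent.Lib.Helper6.AutOrbC2
import Cfsg.Agent.Lib.Helper6.AutOrbC3
import Cfsg.Agent.Lib.Helper24.AutOrbA
import Cfsg.Agent.Lib.Helper24.AutOrbC1
import Cfsg.Agent.Lib.Helper16.AutOrbB2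
import Cfsg.Agent.Lib.Helper16.AutOrbB3
import Cfsg.Agent.Lib.Helper29.AutOrbB4a
import Cfsg.Agent.Lib.Helper29.AutOrbB4b
import Cfsg.Agent.Lib.Helper17.AutOrbB4d
import Cfsg.Agent.Lib.Helper17.AutOrbB4e
import Cfsg.Agent.S2202

/-!
# S4068: a non-solvable finite group with exactly four `Aut`-orbits is `A₅` — assembly

The pieces (proved by helpers 6, 13, 16, 17, 19, 24, 29 under the official names of the farm
skeleton `notes/S4068_Skel_helper19.lean.txt`) are wired together here.
-/

set_option autoImplicit false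

namespace Cfsg.Agent.Lib.Helper19.AutOrb

open Matrix

/-- [C6] assembly of (C): the order is even. -/
theorem even_card {G : Type*} [Group G] [Finite G] (hpo : PrimeOrders G) (hat : AutTrans G)
    (h3 : (Nat.card G).primeFactors.card = 3) (hns : ¬ Group.IsSolvable G) :
    Even (Nat.card G) := by
  by_contra hne
  have hodd : Odd (Nat.card G) := Nat.not_even_iff_odd.mp hne
  refine odd_arith (Nat.card G) hodd h3 (fun s => Nat.card {x : G // orderOf x = s})
    (card_eq_sum_orderOf hpo) ?_ ?_
  · intro s hs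
    have : Fact s.Prime := ⟨Nat.prime_of_mem_primeFactors hs⟩
    exact (card_orderOf_bounds hpo hat h3 hns hodd (Nat.dvd_of_mem_primeFactors hs)).1
  · intro s hs
    have : Fact s.Prime := ⟨Nat.prime_of_mem_primeFactors hs⟩
    exact (card_orderOf_bounds hpo hat h3 hns hodd (Nat.dvd_of_mem_primeFactors hs)).2

/-- [B4f] assembly of the `SL₂` case: `q = 4`. -/
theorem card_field_eq_four {F : Type*} [Field F] [Fintype F] [CharP F 2]
    (hpo : PrimeOrders (SpecialLinearGroup (Fin 2) F))
    (h3 : (Nat.card (SpecialLinearGroup (Fin 2) F)).primeFactors.card = 3) :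
    Fintype.card F = 4 :=
  Aux.card_field_eq_four_of (exists_orderOf_eq_card_sub_one F) two_pow_cases
    (exists_orderOf_nine F) hpo h3

/-- [B4] the `SL₂(F) × A` case. -/
theorem sl2_case {F : Type*} [Field F] [Fintype F] [CharP F 2] {A : Type*} [CommGroup A]
    [Finite A] (hA : Odd (Nat.card A))
    (hpo : PrimeOrders (SpecialLinearGroup (Fin 2) F × A))
    (h3 : (Nat.card (SpecialLinearGroup (Fin 2) F × A)).primeFactors.card = 3) :
    Nonempty (SpecialLinearGroup (Fin 2) F × A ≃* alternatingGroup (Fin 5)) :=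
  Aux.sl2_case_of (card_right_eq_one hA hpo) card_field_eq_four (sl2_four_iso F) hpo h3

/-- The theorem: a non-solvable finite group with exactly four `Aut`-orbits is `A₅`. -/
theorem four_orbits {G : Type*} [Group G] [Finite G] (hns : ¬ Group.IsSolvable G)
    (h4 : Nat.card (MulAction.orbitRel.Quotient (MulAut G) G) = 4) :
    Nonempty (G ≃* alternatingGroup (Fin 5)) := by
  obtain ⟨hpo, hat, h3⟩ := orbits_four hns h4
  have heven := even_card hpo hat h3 hns
  have hab := fun t ht => centralizer_involution_comm hpo t ht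
  rcases Cfsg.Agent.S2202.result heven hab with h | h | ⟨F, _, _, A, _, _, hch, hA, ⟨e⟩⟩
  · exact absurd (isSolvable_of_sylow_two_cyclic hpo h3 heven h) hns
  · exact absurd (isSolvable_of_sylow_two_normal h3 heven h) hns
  · have := hch
    have hpo' := hpo.of_mulEquiv e
    have h3' : (Nat.card (Matrix.SpecialLinearGroup (Fin 2) F × A)).primeFactors.card = 3 := by
      rw [← Nat.card_congr e.toEquiv]
      exact h3
    obtain ⟨e'⟩ := sl2_case hA hpo' h3'
    exact ⟨e.trans e'⟩

end Cfsg.Agent.Lib.Helper19.AutOrb
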